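import Groth.Agent.QC.Closure
import Groth.Agent.QC.Sections
import Groth.Prelude.Def_RelSpec2
import Mathlib.AlgebraicGeometry.Morphisms.Affine

/-!
The direct image along an affine morphism, as modules over the direct image algebra: morphisms
of quasi-coherent modules are the same as linear maps of the direct images.
-/

universe u

open CategoryTheory CategoryTheory.Limits AlgebraicGeometry TopologicalSpace Opposite
open Groth.Agent.QC

set_option backward.isDefEq.respectTransparency false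

noncomputable section

namespace Groth.Agent.DirImgLib

variable {X S : Scheme.{u}} (f : X ⟶ S)

/-- A map of direct images, linear over the direct image of the structure sheaf. -/
structure Lin (F G : X.Modules) where
  app : ∀ U : S.Opens, Γ(F, f ⁻¹ᵁ U) →+ Γ(G, f ⁻¹ᵁ U)
  smul : ∀ (U : S.Opens) (r : Γ(X, f ⁻¹ᵁ U)) (n : Γ(F, f ⁻¹ᵁ U)), app U (r • n) = r • app U n
  nat : ∀ {V U : S.Opens} (h : V ≤ U) (n : Γ(F, f ⁻¹ᵁ U)),
    res G (f.preimage_mono h) (app U n) = app V (res F (f.preimage_mono h) n)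

variable {f} {F G : X.Modules} (u : Lin f F G)

/-- `t'` is the image of `t`: it agrees with `u` wherever `t` is a fraction over the base. -/
def Rel {V : X.Opens} (t : Γ(F, V)) (t' : Γ(G, V)) : Prop :=
  ∀ (U : S.Opens), IsAffineOpen U → ∀ (g : Γ(X, f ⁻¹ᵁ U)) (h : X.basicOpen g ≤ V) (k : ℕ)
    (n : Γ(F, f ⁻¹ᵁ U)), resO X (X.basicOpen_le g) g ^ k • res F h t = res F (X.basicOpen_le g) n →
    resO X (X.basicOpen_le g) g ^ k • res G h t' = res G (X.basicOpen_le g) (u.app U n)

lemma isUnit_res {W : X.Opens} (g : Γ(X, W)) : IsUnit (resO X (X.basicOpen_le g) g) :=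
  RingedSpace.isUnit_res_basicOpen X.toRingedSpace g

lemma smul_cancel {W : X.Opens} {M : X.Modules} (g : Γ(X, W)) (k : ℕ) {a b : Γ(M, X.basicOpen g)}
    (h : resO X (X.basicOpen_le g) g ^ k • a = resO X (X.basicOpen_le g) g ^ k • b) : a = b :=
  ((isUnit_res g).pow k).smul_left_cancel.mp h

variable [IsAffineHom f]

lemma preimage_isAffine {U : S.Opens} (hU : IsAffineOpen U) : IsAffineOpen (f ⁻¹ᵁ U) :=
  hU.preimage f

/-- Two fractions for the same section give the same image. -/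
lemma compat (hF : Coh.IsQCoh F) {V : X.Opens} (t : Γ(F, V)) {U U' : S.Opens}
    (g : Γ(X, f ⁻¹ᵁ U)) (h : X.basicOpen g ≤ V) (k : ℕ) (n : Γ(F, f ⁻¹ᵁ U))
    (g' : Γ(X, f ⁻¹ᵁ U')) (h' : X.basicOpen g' ≤ V) (k' : ℕ) (n' : Γ(F, f ⁻¹ᵁ U'))
    (hn : resO X (X.basicOpen_le g) g ^ k • res F h t = res F (X.basicOpen_le g) n)
    (hn' : resO X (X.basicOpen_le g') g' ^ k' • res F h' t = res F (X.basicOpen_le g') n')
    (c : Γ(G, X.basicOpen g)) (c' : Γ(G, X.basicOpen g'))
    (hc : resO X (X.basicOpen_le g) g ^ k • c = res G (X.basicOpen_le g) (u.app U n))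
    (hc' : resO X (X.basicOpen_le g') g' ^ k' • c' = res G (X.basicOpen_le g') (u.app U' n')) :
    res G (inf_le_left : X.basicOpen g ⊓ X.basicOpen g' ≤ _) c = res G inf_le_right c' := by
  refine section_eq_of_locally fun x hx => ?_
  obtain ⟨U'', hU'', hxU, hle⟩ := exists_isAffineOpen_mem_and_subset (U := U ⊓ U') (x := f x)
    ⟨X.basicOpen_le g hx.1, X.basicOpen_le g' hx.2⟩
  have hW : f ⁻¹ᵁ U'' ≤ f ⁻¹ᵁ U := f.preimage_mono (hle.trans inf_le_left)
  have hW' : f ⁻¹ᵁ U'' ≤ f ⁻¹ᵁ U' := f.preimage_mono (hle.trans inf_le_right)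
  set a := resO X hW g with ha
  set a' := resO X hW' g' with ha'
  set D := X.basicOpen (a * a') with hD
  have hDa : D ≤ X.basicOpen g := by
    rw [hD, X.basicOpen_mul]
    exact inf_le_left.trans ((X.basicOpen_res g (homOfLE hW).op).le.trans inf_le_right)
  have hDa' : D ≤ X.basicOpen g' := by
    rw [hD, X.basicOpen_mul]
    exact inf_le_right.trans ((X.basicOpen_res g' (homOfLE hW').op).le.trans inf_le_right)
  have hxD : x ∈ D := by
    rw [hD, X.basicOpen_mul, ha, ha', resO, resO, X.basicOpen_res, X.basicOpen_res]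
    exact ⟨⟨hxU, hx.1⟩, ⟨hxU, hx.2⟩⟩
  set A := resO X (X.basicOpen_le (a * a')) a with hA
  set A' := resO X (X.basicOpen_le (a * a')) a' with hA'
  have eA : resO X hDa (resO X (X.basicOpen_le g) g) = A := by
    exact (resO_resO _ _ g).trans (resO_resO _ _ g).symm
  have eA' : resO X hDa' (resO X (X.basicOpen_le g') g') = A' := by
    exact (resO_resO _ _ g').trans (resO_resO _ _ g').symm
  set m := res F hW n with hm
  set m' := res F hW' n' with hm'
  have e1 : A ^ k • res F (hDa.trans h) t = res F (X.basicOpen_le _) m := by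
    have := congrArg (res F hDa) hn
    rw [res_smul, map_pow, eA, res_res, res_res] at this
    rw [this, hm, res_res]
  have e2 : A' ^ k' • res F (hDa.trans h) t = res F (X.basicOpen_le _) m' := by
    have := congrArg (res F hDa') hn'
    rw [res_smul, map_pow, eA', res_res, res_res] at this
    rw [this, hm', res_res]
  obtain ⟨N, hN⟩ := (isLoc_of_isQCoh (preimage_isAffine hU'') (hM := hF)).exists_pow_smul_eq_zero
    (a * a') (a' ^ k' • m - a ^ k • m') (by
      rw [map_sub, res_smul, res_smul, map_pow, map_pow, ← hA, ← hA', ← e1, ← e2, smul_comm,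
        sub_self])
  have hz := congrArg (u.app U'') hN
  rw [map_zero, u.smul, map_sub, u.smul, u.smul, hm, hm',
    ← u.nat (hle.trans inf_le_left), ← u.nat (hle.trans inf_le_right)] at hz
  have hz' := congrArg (res G (X.basicOpen_le (a * a'))) hz
  rw [map_zero, res_smul, map_sub, res_smul, res_smul, map_pow, map_pow, map_pow, ← hA, ← hA',
    res_res, res_res] at hz'
  have e3 : A ^ k • res G hDa c = res G ((hDa.trans (X.basicOpen_le g))) (u.app U n) := by
    have := congrArg (res G hDa) hc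
    rwa [res_smul, map_pow, eA, res_res] at this
  have e4 : A' ^ k' • res G hDa' c' = res G ((hDa'.trans (X.basicOpen_le g'))) (u.app U' n') := by
    have := congrArg (res G hDa') hc'
    rwa [res_smul, map_pow, eA', res_res] at this
  have hAu : IsUnit A := eA ▸ (isUnit_res g).map (resO X hDa)
  have hAu' : IsUnit A' := eA' ▸ (isUnit_res g').map (resO X hDa')
  have hprod : IsUnit (resO X (X.basicOpen_le (a * a')) (a * a')) := isUnit_res _
  rw [(hprod.pow N).smul_eq_zero, sub_eq_zero, ← e3, ← e4, smul_comm] at hz'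
  refine ⟨D, le_inf hDa hDa', hxD, ?_⟩
  rw [res_res, res_res]
  exact hAu'.pow k' |>.smul_left_cancel.mp ((hAu.pow k).smul_left_cancel.mp hz')

variable (f) in
lemma exists_frac (hF : Coh.IsQCoh F) {U : S.Opens} (hU : IsAffineOpen U) (g : Γ(X, f ⁻¹ᵁ U))
    {V : X.Opens} (h : X.basicOpen g ≤ V) (t : Γ(F, V)) :
    ∃ (k : ℕ) (n : Γ(F, f ⁻¹ᵁ U)),
      resO X (X.basicOpen_le g) g ^ k • res F h t = res F (X.basicOpen_le g) n := by
  obtain ⟨k, n, hn⟩ := (isLoc_of_isQCoh (preimage_isAffine hU) (hM := hF)).exists_extend g (res F h t)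
  exact ⟨k, n, hn.symm⟩

variable (f) in
lemma exists_chart {V : X.Opens} {x : X} (hx : x ∈ V) :
    ∃ (U : S.Opens) (_ : IsAffineOpen U) (g : Γ(X, f ⁻¹ᵁ U)) (_ : X.basicOpen g ≤ V),
      x ∈ X.basicOpen g := by
  obtain ⟨U, hU, hxU, -⟩ := exists_isAffineOpen_mem_and_subset (U := (⊤ : S.Opens)) (x := f x) trivial
  obtain ⟨g, hg, hxg⟩ := (preimage_isAffine (f := f) hU).exists_basicOpen_le ⟨x, hx⟩ hxU
  exact ⟨U, hU, g, hg, hxg⟩

lemma rel_unique (hF : Coh.IsQCoh F) {V : X.Opens} {t : Γ(F, V)} {t₁ t₂ : Γ(G, V)}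
    (h₁ : Rel u t t₁) (h₂ : Rel u t t₂) : t₁ = t₂ := by
  refine section_eq_of_locally fun x hx => ?_
  obtain ⟨U, hU, g, hg, hxg⟩ := exists_chart f hx
  obtain ⟨k, n, hn⟩ := exists_frac f hF hU g hg t
  exact ⟨_, hg, hxg, smul_cancel g k ((h₁ U hU g hg k n hn).trans (h₂ U hU g hg k n hn).symm)⟩

lemma exists_rel (hF : Coh.IsQCoh F) {V : X.Opens} (t : Γ(F, V)) : ∃ t' : Γ(G, V), Rel u t t' := by
  choose U hU g hg hxg using fun x : V => exists_chart f x.2
  choose k n hn using fun x : V => exists_frac f hF (hU x) (g x) (hg x) t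
  let c : ∀ x : V, Γ(G, X.basicOpen (g x)) := fun x =>
    (((isUnit_res (g x)).pow (k x)).unit⁻¹ : Γ(X, X.basicOpen (g x))ˣ).1 •
      res G (X.basicOpen_le (g x)) (u.app (U x) (n x))
  have hc : ∀ x, resO X (X.basicOpen_le (g x)) (g x) ^ k x • c x =
      res G (X.basicOpen_le (g x)) (u.app (U x) (n x)) := fun x => by
    simp only [c, smul_smul]
    rw [IsUnit.mul_val_inv, one_smul]
  obtain ⟨t', ht', -⟩ := TopCat.Sheaf.existsUnique_gluing' (abSheaf G) (fun x : V => X.basicOpen (g x))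
    V (fun x => homOfLE (hg x)) (fun y hy => Opens.mem_iSup.mpr ⟨⟨y, hy⟩, hxg ⟨y, hy⟩⟩) c
    (fun x y => compat u hF t (g x) (hg x) (k x) (n x) (g y) (hg y) (k y) (n y) (hn x) (hn y)
      (c x) (c y) (hc x) (hc y))
  refine ⟨t', fun U₀ hU₀ g₀ h₀ k₀ n₀ hn₀ => ?_⟩
  let c₀ := (((isUnit_res g₀).pow k₀).unit⁻¹ : Γ(X, X.basicOpen g₀)ˣ).1 •
    res G (X.basicOpen_le g₀) (u.app U₀ n₀)
  have hc₀ : resO X (X.basicOpen_le g₀) g₀ ^ k₀ • c₀ = res G (X.basicOpen_le g₀) (u.app U₀ n₀) := by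
    simp only [c₀, smul_smul]
    rw [IsUnit.mul_val_inv, one_smul]
  rw [← hc₀]
  congr 1
  refine section_eq_of_locally fun y hy => ?_
  let x : V := ⟨y, h₀ hy⟩
  refine ⟨X.basicOpen g₀ ⊓ X.basicOpen (g x), inf_le_left, ⟨hy, hxg x⟩, ?_⟩
  rw [compat u hF t g₀ h₀ k₀ n₀ (g x) (hg x) (k x) (n x) hn₀ (hn x) c₀ (c x) hc₀ (hc x)]
  refine Eq.trans ?_ (congrArg (res G inf_le_right) (ht' x))
  change res G _ (res G h₀ t') = res G inf_le_right (res G (hg x) t')
  rw [res_res, res_res]

/-- The image of a section. -/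
def image (hF : Coh.IsQCoh F) {V : X.Opens} (t : Γ(F, V)) : Γ(G, V) := (exists_rel u hF t).choose

lemma image_rel (hF : Coh.IsQCoh F) {V : X.Opens} (t : Γ(F, V)) : Rel u t (image u hF t) :=
  (exists_rel u hF t).choose_spec

lemma image_res (hF : Coh.IsQCoh F) {W V : X.Opens} (h : W ≤ V) (t : Γ(F, V)) :
    image u hF (res F h t) = res G h (image u hF t) := by
  refine rel_unique u hF (image_rel u hF _) fun U hU g hg k n hn => ?_
  rw [res_res] at hn ⊢
  exact image_rel u hF t U hU g (hg.trans h) k n hn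

lemma image_add (hF : Coh.IsQCoh F) {V : X.Opens} (t₁ t₂ : Γ(F, V)) :
    image u hF (t₁ + t₂) = image u hF t₁ + image u hF t₂ := by
  refine section_eq_of_locally fun x hx => ?_
  obtain ⟨U, hU, g, hg, hxg⟩ := exists_chart f hx
  obtain ⟨k₁, n₁, hn₁⟩ := exists_frac f hF hU g hg t₁
  obtain ⟨k₂, n₂, hn₂⟩ := exists_frac f hF hU g hg t₂
  refine ⟨_, hg, hxg, smul_cancel g (k₁ + k₂) ?_⟩
  rw [image_rel u hF (t₁ + t₂) U hU g hg (k₁ + k₂) (g ^ k₂ • n₁ + g ^ k₁ • n₂) ?_,
    map_add, map_add, map_add, smul_add, u.smul, u.smul, res_smul, res_smul, map_pow, map_pow,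
    ← image_rel u hF t₁ U hU g hg k₁ n₁ hn₁, ← image_rel u hF t₂ U hU g hg k₂ n₂ hn₂,
    smul_smul, smul_smul, ← pow_add, ← pow_add, add_comm k₂ k₁]
  rw [map_add, map_add, smul_add, res_smul, res_smul, map_pow, map_pow, ← hn₁, ← hn₂,
    smul_smul, smul_smul, ← pow_add, ← pow_add, add_comm k₂ k₁]

lemma image_smul (hF : Coh.IsQCoh F) {V : X.Opens} (r : Γ(X, V)) (t : Γ(F, V)) :
    image u hF (r • t) = r • image u hF t := by
  refine section_eq_of_locally fun x hx => ?_
  obtain ⟨U, hU, g, hg, hxg⟩ := exists_chart f hx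
  obtain ⟨k, n, hn⟩ := exists_frac f hF hU g hg t
  haveI := (preimage_isAffine (f := f) hU).isLocalization_basicOpen g
  obtain ⟨⟨a, _, m, rfl⟩, ha⟩ := IsLocalization.surj (Submonoid.powers g) (resO X hg r)
  have ha' : resO X hg r * resO X (X.basicOpen_le g) g ^ m = resO X (X.basicOpen_le g) a := by
    rw [← map_pow]; exact ha
  refine ⟨_, hg, hxg, smul_cancel g (m + k) ?_⟩
  rw [image_rel u hF (r • t) U hU g hg (m + k) (a • n) ?_, u.smul, res_smul, res_smul, ← ha',
    ← image_rel u hF t U hU g hg k n hn, smul_smul, smul_smul]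
  · congr 1
    ring
  · rw [res_smul, res_smul, ← ha', ← hn, smul_smul, smul_smul]
    congr 1
    ring

lemma image_app (hF : Coh.IsQCoh F) (U : S.Opens) (n : Γ(F, f ⁻¹ᵁ U)) :
    image u hF n = u.app U n := by
  refine section_eq_of_locally fun x hx => ?_
  obtain ⟨U', hU', hxU, hle⟩ := exists_isAffineOpen_mem_and_subset (U := U) (x := f x) hx
  have h1 : X.basicOpen (1 : Γ(X, f ⁻¹ᵁ U')) = f ⁻¹ᵁ U' := X.basicOpen_of_isUnit isUnit_one
  have hg : X.basicOpen (1 : Γ(X, f ⁻¹ᵁ U')) ≤ f ⁻¹ᵁ U := h1.le.trans (f.preimage_mono hle)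
  refine ⟨_, hg, (by rw [h1]; exact hxU), ?_⟩
  have := image_rel u hF n U' hU' 1 hg 0 (res F (f.preimage_mono hle) n) (by
    rw [pow_zero, one_smul, res_res])
  rwa [pow_zero, one_smul, ← u.nat hle, res_res] at this

/-- The morphism attached to a linear map of direct images. -/
def toHom (hF : Coh.IsQCoh F) : F ⟶ G :=
  ⟨PresheafOfModules.homMk
    { app := fun V => AddCommGrpCat.ofHom (AddMonoidHom.mk' (image u hF (V := V.unop)) (image_add u hF))
      naturality := fun V W i => by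
        ext t
        exact image_res u hF i.unop.le t }
    fun V r t => image_smul u hF r t⟩

lemma toHom_app (hF : Coh.IsQCoh F) (U : S.Opens) (n : Γ(F, f ⁻¹ᵁ U)) :
    (toHom u hF).app (f ⁻¹ᵁ U) n = u.app U n :=
  image_app u hF U n

variable (f) in
/-- A morphism of quasi-coherent modules is determined on preimages of affine opens. -/
lemma hom_ext (hF : Coh.IsQCoh F) {v w : F ⟶ G}
    (h : ∀ U : S.Opens, IsAffineOpen U → ∀ n, v.app (f ⁻¹ᵁ U) n = w.app (f ⁻¹ᵁ U) n) : v = w := by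
  apply Scheme.Modules.hom_ext
  intro V
  ext t
  refine section_eq_of_locally fun x hx => ?_
  obtain ⟨U, hU, g, hg, hxg⟩ := exists_chart f hx
  obtain ⟨k, n, hn⟩ := exists_frac f hF hU g hg t
  refine ⟨_, hg, hxg, smul_cancel g k ?_⟩
  rw [app_res, app_res, ← Scheme.Modules.Hom.app_smul, ← Scheme.Modules.Hom.app_smul, hn,
    ← app_res, ← app_res, h U hU]

/-- The linear map underlying a morphism of direct images over the algebra. -/
def ofMap [QuasiCompact f] [QuasiSeparated f] (w : (AMod.dirImg f).obj F ⟶ (AMod.dirImg f).obj G) :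
    Lin f F G where
  app U := (w.val.app (op U)).hom.toAddMonoidHom
  smul U r n := (w.val.app (op U)).hom.map_smul r n
  nat h n := congr($(w.val.naturality (homOfLE h).op) n).symm

end Groth.Agent.DirImgLib
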