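import Groth.Agent.QC.Closure
import Groth.Agent.QC.Localisation
import Groth.Agent.QC.FiniteType
import Groth.Agent.QCAlg.Colim
import Groth.Prelude.Def_RelSpec2
import Mathlib.AlgebraicGeometry.Morphisms.Affine

/-!
Sections over affine opens commute with colimits of quasi-coherent modules; the direct image along an
affine morphism commutes with such colimits.
-/

universe u

open CategoryTheory CategoryTheory.Limits AlgebraicGeometry TopologicalSpace Opposite
open Groth.Agent.QC

set_option backward.isDefEq.respectTransparency false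

noncomputable section

namespace Groth.Agent.DirImgLib

variable {X S : Scheme.{u}}

/-- Sections over `U`, as abelian groups. -/
abbrev sectFunctor (U : X.Opens) : X.Modules ⥤ AddCommGrpCat.{u} :=
  Scheme.Modules.toPresheaf X ⋙ (evaluation _ _).obj (op U)

/-- Sections over an affine open are the global sections of the restriction to it. -/
def sectIso {U : X.Opens} (hU : IsAffineOpen U) :
    Scheme.Modules.restrictFunctor hU.fromSpec ⋙ moduleSpecΓFunctor (R := Γ(X, U)) ⋙
      forget₂ (ModuleCat Γ(X, U)) AddCommGrpCat.{u} ≅ sectFunctor U :=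
  NatIso.ofComponents (fun M => AddEquiv.toAddCommGrpIso (topEquiv hU M).toAddEquiv)
    fun {M N} φ => by
      ext s
      exact app_res φ _ _

/-- Global sections commute with colimits of quasi-coherent modules on an affine scheme. -/
def isColimitΓ {R : CommRingCat.{u}} {J : Type u} [SmallCategory J] (D : J ⥤ (Spec R).Modules)
    (hD : ∀ j, Coh.IsQCoh (D.obj j)) {c : Cocone D} (hc : IsColimit c) :
    IsColimit ((moduleSpecΓFunctor (R := R)).mapCocone c) := by
  haveI hpt : IsIso c.pt.fromTildeΓ := by
    refine @Scheme.Modules.isIso_fromTildeΓ_of_isQuasicoherent R c.pt ?_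
    exact isQCoh_of_iso ((colimit.isColimit D).coconePointUniqueUpToIso hc) (isQCoh_colimit D hD)
  haveI hobj : ∀ j, IsIso ((Functor.whiskerLeft D (Scheme.Modules.fromTildeΓNatTrans (R := R))).app j) :=
    fun j ↦ @Scheme.Modules.isIso_fromTildeΓ_of_isQuasicoherent R (D.obj j) (hD j)
  haveI := NatIso.isIso_of_isIso_app (Functor.whiskerLeft D (Scheme.Modules.fromTildeΓNatTrans (R := R)))
  refine isColimitOfReflects (tilde.functor R) ?_
  let w : (D ⋙ moduleSpecΓFunctor (R := R)) ⋙ tilde.functor R ≅ D :=
    Functor.associator _ _ _ ≪≫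
      asIso (Functor.whiskerLeft D (Scheme.Modules.fromTildeΓNatTrans (R := R))) ≪≫
      D.rightUnitor
  refine (IsColimit.equivOfNatIsoOfIso w _ c ?_).symm hc
  refine Cocone.ext (@asIso _ _ _ _ c.pt.fromTildeΓ hpt) fun j => ?_
  have h := (Scheme.Modules.fromTildeΓNatTrans (R := R)).naturality (c.ι.app j)
  simp only [Cocone.precompose_obj_ι, NatTrans.comp_app, Category.assoc]
  change w.inv.app j ≫ (tilde.functor R).map ((moduleSpecΓFunctor (R := R)).map (c.ι.app j)) ≫
    (Scheme.Modules.fromTildeΓNatTrans (R := R)).app c.pt = c.ι.app j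
  refine (congrArg (w.inv.app j ≫ ·) h).trans ?_
  have h2 : (Scheme.Modules.fromTildeΓNatTrans (R := R)).app (D.obj j) = w.hom.app j := by
    simp [w]
  rw [h2]
  exact w.inv_hom_id_app_assoc j _

/-- Sections over an affine open commute with colimits of quasi-coherent modules. -/
def isColimitSect {U : X.Opens} (hU : IsAffineOpen U) {J : Type u} [SmallCategory J]
    (D : J ⥤ X.Modules) (hD : ∀ j, Coh.IsQCoh (D.obj j)) {c : Cocone D} (hc : IsColimit c) :
    IsColimit ((sectFunctor U).mapCocone c) :=
  IsColimit.mapCoconeEquiv (sectIso hU)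
    (isColimitOfPreserves (forget₂ (ModuleCat Γ(X, U)) AddCommGrpCat.{u})
      (isColimitΓ (D ⋙ Scheme.Modules.restrictFunctor hU.fromSpec) (fun j => isQCoh_restrict _ (hD j))
        (isColimitOfPreserves (Scheme.Modules.restrictFunctor hU.fromSpec) hc)))

variable (f : X ⟶ S) [IsAffineHom f]

/-- The direct image along an affine morphism commutes with colimits of quasi-coherent modules. -/
def isColimitPushforward {J : Type u} [SmallCategory J] (D : J ⥤ X.Modules)
    (hD : ∀ j, Coh.IsQCoh (D.obj j)) {c : Cocone D} (hc : IsColimit c) :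
    IsColimit ((Scheme.Modules.pushforward f).mapCocone c) := by
  let P := Scheme.Modules.pushforward f
  have hD' : ∀ j, Coh.IsQCoh ((D ⋙ P).obj j) := fun j => isQCoh_pushforward f (hM := hD j)
  have hp : Coh.IsQCoh c.pt :=
    isQCoh_of_iso ((colimit.isColimit D).coconePointUniqueUpToIso hc) (isQCoh_colimit D hD)
  let φ := colimit.desc (D ⋙ P) (P.mapCocone c)
  have hb : ∀ U : S.Opens, IsAffineOpen U → Function.Bijective (φ.app U) := by
    intro U hU
    have h1 := isColimitSect hU (D ⋙ P) hD' (colimit.isColimit _)
    have h2 : IsColimit ((sectFunctor U).mapCocone (P.mapCocone c)) :=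
      isColimitSect (hU.preimage f) D hD hc
    have e : (sectFunctor U).map φ = (h1.coconePointUniqueUpToIso h2).hom := by
      refine h1.hom_ext fun j => ?_
      rw [IsColimit.comp_coconePointUniqueUpToIso_hom]
      change (sectFunctor U).map _ ≫ (sectFunctor U).map φ = _
      rw [← Functor.map_comp]
      exact congrArg (sectFunctor U).map (colimit.ι_desc _ _)
    haveI : IsIso ((sectFunctor U).map φ) := by rw [e]; infer_instance
    exact ConcreteCategory.bijective_of_isIso ((sectFunctor U).map φ)
  haveI : IsIso φ := by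
    refine isIso_of_restrict_cover (fun U : S.affineOpens => U.2.fromSpec) (fun x => ?_) φ
      fun U => isIso_restrict_of_bijective U.2 (isQCoh_colimit _ hD') (isQCoh_pushforward f (hM := hp))
        φ (hb U.1 U.2)
    obtain ⟨U, hU, hx⟩ := exists_affine_mem (X := S) x
    exact ⟨⟨U, hU⟩, hU.range_fromSpec.symm ▸ hx⟩
  exact (colimit.isColimit _).ofPointIso (i := ‹IsIso φ›)

/-- The direct image over the algebra commutes with colimits of quasi-coherent modules. -/
def isColimitDirImg {J : Type u} [SmallCategory J] (D : J ⥤ X.Modules)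
    (hD : ∀ j, Coh.IsQCoh (D.obj j)) {c : Cocone D} (hc : IsColimit c) :
    IsColimit ((AMod.dirImg f).mapCocone c) := by
  haveI : (AMod.toOS (RelSpec.QCAlg.directImage f)).ReflectsIsomorphisms := by
    delta AMod.toOS
    haveI : (SheafOfModules.restrictScalars (AMod.strHom (RelSpec.QCAlg.directImage f)) ⋙
        SheafOfModules.toSheaf S.ringCatSheaf).ReflectsIsomorphisms :=
      inferInstanceAs (SheafOfModules.toSheaf (AMod.ringSheaf (RelSpec.QCAlg.directImage f))).ReflectsIsomorphisms
    exact reflectsIsomorphisms_of_comp _ (SheafOfModules.toSheaf S.ringCatSheaf)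
  haveI : PreservesColimitsOfSize.{u, u} (AMod.toOS (RelSpec.QCAlg.directImage f)) := by
    delta AMod.toOS
    exact QCAlg.restrictScalars_preservesColimitsOfSize (J := Opens.grothendieckTopology S) _
  haveI := reflectsColimit_of_reflectsIsomorphisms (D ⋙ AMod.dirImg f) (AMod.toOS (RelSpec.QCAlg.directImage f))
  exact isColimitOfReflects (AMod.toOS (RelSpec.QCAlg.directImage f)) (isColimitPushforward f D hD hc)

end Groth.Agent.DirImgLib
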