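import Groth.Agent.DirImgLib.Basic
import Groth.Agent.RelSpecUP.Basic
import Groth.Agent.QC.IdealMod
import Mathlib.Algebra.TrivSqZeroExt.Basic

/-!
# A quasi-coherent module over the direct image algebra comes from the source

The module is recovered inside the spectrum of the square-zero extension.
-/

set_option autoImplicit false
set_option backward.isDefEq.respectTransparency false
set_option backward.isDefEq.respectTransparency.types false
set_option linter.style.haveILetI false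

universe u

open CategoryTheory CategoryTheory.Limits AlgebraicGeometry TopologicalSpace Opposite
open Groth.Agent.QC

noncomputable section

namespace Groth.Agent.DirImgExt

variable {X S : Scheme.{u}} (f : X ⟶ S) [QuasiCompact f] [QuasiSeparated f]
  (M : AMod (RelSpec.QCAlg.directImage f))

/-- The sections of a module over the direct image algebra. -/
def Sec (U : S.Opens) : Type u := M.val.obj (op U)

instance (U : S.Opens) : AddCommGroup (Sec f M U) := inferInstanceAs (AddCommGroup (M.val.obj (op U)))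

instance (U : S.Opens) : Module Γ(X, f ⁻¹ᵁ U) (Sec f M U) :=
  inferInstanceAs (Module ((AMod.ringSheaf (RelSpec.QCAlg.directImage f)).obj.obj (op U)) (M.val.obj (op U)))

instance (U : S.Opens) : Module Γ(X, f ⁻¹ᵁ U)ᵐᵒᵖ (Sec f M U) :=
  Module.compHom _ ((RingHom.id Γ(X, f ⁻¹ᵁ U)).fromOpposite mul_comm)

instance (U : S.Opens) : IsCentralScalar Γ(X, f ⁻¹ᵁ U) (Sec f M U) := ⟨fun _ _ => rfl⟩

/-- Restriction of sections. -/
def rs {V U : S.Opens} (h : V ≤ U) : Sec f M U →+ Sec f M V :=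
  AddMonoidHom.mk' (fun m => (M.val.map (homOfLE h).op m : M.val.obj (op V)))
    (fun a b => map_add (M.val.map (homOfLE h).op).hom a b)

lemma rs_smul {V U : S.Opens} (h : V ≤ U) (r : Γ(X, f ⁻¹ᵁ U)) (m : Sec f M U) :
    rs f M h (r • m) = resO X (f.preimage_mono h) r • rs f M h m :=
  PresheafOfModules.map_smul M.val (homOfLE h).op r m

/-- The square-zero extension over an open. -/
abbrev Ext (U : S.Opens) : Type u := TrivSqZeroExt Γ(X, f ⁻¹ᵁ U) (Sec f M U)

/-- Restriction of the square-zero extension. -/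
def resE {V U : S.Opens} (h : V ≤ U) : Ext f M U →+* Ext f M V where
  toFun x := TrivSqZeroExt.inl (resO X (f.preimage_mono h) x.fst) + TrivSqZeroExt.inr (rs f M h x.snd)
  map_one' := by ext <;> simp
  map_zero' := by ext <;> simp
  map_add' x y := by ext <;> simp
  map_mul' x y := by ext <;> simp [rs_smul]

@[simp] lemma fst_resE {V U : S.Opens} (h : V ≤ U) (x : Ext f M U) :
    (resE f M h x).fst = resO X (f.preimage_mono h) x.fst := by simp [resE]

@[simp] lemma snd_resE {V U : S.Opens} (h : V ≤ U) (x : Ext f M U) :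
    (resE f M h x).snd = rs f M h x.snd := by simp [resE]

lemma fst_pair {U : S.Opens} (a : Γ(X, f ⁻¹ᵁ U)) (m : Sec f M U) :
    (TrivSqZeroExt.inl a + TrivSqZeroExt.inr m : Ext f M U).fst = a := by simp

lemma snd_pair {U : S.Opens} (a : Γ(X, f ⁻¹ᵁ U)) (m : Sec f M U) :
    (TrivSqZeroExt.inl a + TrivSqZeroExt.inr m : Ext f M U).snd = m := by simp

/-- The square-zero extension as a presheaf. -/
def extPre : TopCat.Presheaf CommRingCat.{u} S.carrier where
  obj U := CommRingCat.of (Ext f M U.unop)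
  map {U V} i := CommRingCat.ofHom (resE f M i.unop.le)
  map_id U := by
    refine CommRingCat.hom_ext (RingHom.ext fun x => TrivSqZeroExt.ext ?_ ?_)
    · exact (fst_resE f M _ x).trans (resO_self (f.preimage_mono le_rfl) x.fst)
    · exact (snd_resE f M _ x).trans (congr($(M.val.presheaf.map_id U) x.snd))
  map_comp {U V W} i k := by
    refine CommRingCat.hom_ext (RingHom.ext fun x => TrivSqZeroExt.ext ?_ ?_)
    · change (resE f M _ x).fst = (resE f M _ (resE f M _ x)).fst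
      simp only [fst_resE]
      exact (resO_resO _ _ _).symm
    · change (resE f M _ x).snd = (resE f M _ (resE f M _ x)).snd
      simp only [snd_resE]
      exact congr($(M.val.presheaf.map_comp i k) x.snd)

lemma isSheaf_extPre : (extPre f M).IsSheaf := by
  refine (TopCat.Presheaf.isSheaf_iff_isSheafUniqueGluing (F := extPre f M)).2 fun {ι} U sf hsf => ?_
  obtain ⟨a, ha, ha'⟩ := ((TopCat.Sheaf.pushforward_sheaf_of_sheaf f.base X.sheaf.property :
      TopCat.Presheaf.IsSheaf (f.base _* X.presheaf)).isSheafUniqueGluing U (fun i => (sf i).fst)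
    (fun i j => (fst_resE f M inf_le_left (sf i)).symm.trans
      ((congrArg TrivSqZeroExt.fst (hsf i j)).trans (fst_resE f M inf_le_right (sf j)))))
  obtain ⟨m, hm, hm'⟩ := (TopCat.Sheaf.existsUnique_gluing (⟨M.val.presheaf, M.isSheaf⟩ : TopCat.Sheaf AddCommGrpCat.{u} S.carrier)
    U (fun i => (sf i).snd) (fun i j => (snd_resE f M inf_le_left (sf i)).symm.trans
      ((congrArg TrivSqZeroExt.snd (hsf i j)).trans (snd_resE f M inf_le_right (sf j)))))
  refine ⟨TrivSqZeroExt.inl a + TrivSqZeroExt.inr (m : Sec f M (iSup U)), fun i => ?_, fun z hz => ?_⟩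
  · refine TrivSqZeroExt.ext ?_ ?_
    · exact (fst_resE f M _ _).trans ((congrArg _ (fst_pair f M a m)).trans (ha i))
    · exact (snd_resE f M _ _).trans ((congrArg _ (snd_pair f M a m)).trans (hm i))
  · refine TrivSqZeroExt.ext ?_ ?_
    · exact (ha' _ fun i => (fst_resE f M _ z).symm.trans (congrArg _ (hz i))).trans (fst_pair f M a m).symm
    · exact (hm' _ fun i => (snd_resE f M _ z).symm.trans (congrArg _ (hz i))).trans (snd_pair f M a m).symm

/-- The structure map. -/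
def extStr : S.presheaf ⟶ extPre f M where
  app U := CommRingCat.ofHom ((TrivSqZeroExt.inlHom Γ(X, f ⁻¹ᵁ U.unop) (Sec f M U.unop)).comp (f.app U.unop).hom)
  naturality U V i := by
    refine CommRingCat.hom_ext (RingHom.ext fun r => TrivSqZeroExt.ext ?_ ?_)
    · refine Eq.trans ?_ (fst_resE f M _ _).symm
      exact congr($(f.c.naturality i) r)
    · refine Eq.trans ?_ (snd_resE f M _ _).symm
      exact (map_zero (rs f M i.unop.le)).symm

lemma isQC_extPre (hM : Coh.IsQCoh ((AMod.toOS (RelSpec.QCAlg.directImage f)).obj M)) :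
    RelSpec.IsQC (extPre f M) (extStr f M) := by
  intro U hU r
  have hA := RelSpec.QCAlg.isQC_pushforward f U hU r
  have hL := isLoc_of_isQCoh (M := (AMod.toOS (RelSpec.QCAlg.directImage f)).obj M) hU (hM := hM)
  let V := S.basicOpen r
  have hV : V ≤ U := S.basicOpen_le r
  letI : Algebra (Ext f M U) (Ext f M V) := (resE f M hV).toAlgebra
  let z : Ext f M U := TrivSqZeroExt.inl (f.app U r)
  change IsLocalization.Away z (Ext f M V)
  letI : Algebra Γ(X, f ⁻¹ᵁ U) Γ(X, f ⁻¹ᵁ V) := (resO X (f.preimage_mono hV)).toAlgebra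
  haveI : IsLocalization.Away (f.app U r : Γ(X, f ⁻¹ᵁ U)) Γ(X, f ⁻¹ᵁ V) := hA
  have hz : ∀ (n : ℕ) (x : Ext f M U), z ^ n * x =
      TrivSqZeroExt.inl ((f.app U r) ^ n * x.fst) + TrivSqZeroExt.inr ((f.app U r) ^ n • x.snd) := fun n x => by
    ext <;> simp [z, ← TrivSqZeroExt.inl_pow]
  have hu : IsUnit (resO X (f.preimage_mono hV) (f.app U r)) :=
    IsLocalization.Away.algebraMap_isUnit (S := Γ(X, f ⁻¹ᵁ V)) (f.app U r : Γ(X, f ⁻¹ᵁ U))
  constructor
  refine ⟨?_, ?_, ?_⟩
  · rintro ⟨_, n, rfl⟩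
    change IsUnit (resE f M hV (z ^ n))
    rw [map_pow, show resE f M hV z = TrivSqZeroExt.inlHom _ (Sec f M V) (resO X (f.preimage_mono hV) (f.app U r)) from
      by ext <;> simp [z]]
    exact (hu.map _).pow n
  · intro y
    obtain ⟨⟨a, ⟨_, n₁, rfl⟩⟩, ha⟩ := IsLocalization.surj (Submonoid.powers (f.app U r : Γ(X, f ⁻¹ᵁ U))) y.fst
    obtain ⟨n₂, m₀, hm⟩ := hL.exists_extend r y.snd
    let m : Sec f M U := m₀
    have hm' : rs f M hV m = resO X (f.preimage_mono hV) (f.app U r) ^ n₂ • y.snd := by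
      refine hm.trans ?_
      change (f.app V (resO S hV r ^ n₂)) • y.snd = _
      rw [map_pow]
      congr 2
      exact congr($(f.c.naturality (homOfLE hV).op) r)
    refine ⟨⟨TrivSqZeroExt.inl (f.app U r ^ n₂ * a) + TrivSqZeroExt.inr ((f.app U r ^ n₁ • m)),
      ⟨_, n₁ + n₂, rfl⟩⟩, ?_⟩
    change y * resE f M hV (z ^ (n₁ + n₂)) = resE f M hV _
    have ha' : y.fst * resO X (f.preimage_mono hV) (f.app U r ^ n₁) = resO X (f.preimage_mono hV) a := ha
    rw [mul_comm y, show z ^ (n₁ + n₂) = z ^ (n₁ + n₂) * 1 from (mul_one _).symm, hz]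
    refine TrivSqZeroExt.ext ?_ ?_
    · simp only [TrivSqZeroExt.fst_mul, fst_resE, TrivSqZeroExt.fst_add, TrivSqZeroExt.fst_inl, TrivSqZeroExt.fst_inr,
        TrivSqZeroExt.fst_one, mul_one, add_zero, map_mul, ← ha', map_pow, pow_add]
      ring
    · simp [rs_smul, hm', smul_smul, ← pow_add, add_comm n₁]
  · intro x y h
    have h' : resE f M hV x = resE f M hV y := h
    obtain ⟨⟨_, n₁, rfl⟩, hn₁⟩ := IsLocalization.exists_of_eq (M := Submonoid.powers (f.app U r : Γ(X, f ⁻¹ᵁ U)))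
      (S := Γ(X, f ⁻¹ᵁ V)) (x := x.fst) (y := y.fst)
      ((fst_resE f M hV x).symm.trans ((congrArg TrivSqZeroExt.fst h').trans (fst_resE f M hV y)))
    obtain ⟨n₂, hn₂⟩ := hL.exists_pow_smul_eq_zero r (x.snd - y.snd : Sec f M U) (by
      have := congrArg TrivSqZeroExt.snd h'
      simp only [snd_resE] at this
      change rs f M hV (x.snd - y.snd) = 0
      rw [map_sub, this, sub_self])
    have hn₂' : f.app U r ^ n₂ • (x.snd - y.snd) = 0 := by
      rw [← map_pow]; exact hn₂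
    refine ⟨⟨_, n₁ + n₂, rfl⟩, ?_⟩
    change z ^ (n₁ + n₂) * x = z ^ (n₁ + n₂) * y
    rw [hz, hz]
    congr 2
    · simp only at hn₁
      rw [pow_add, mul_comm (_ ^ n₁), mul_assoc, hn₁, mul_assoc]
    · rw [← sub_eq_zero, ← smul_sub, pow_add, mul_smul, hn₂', smul_zero]

variable (hM : Coh.IsQCoh ((AMod.toOS (RelSpec.QCAlg.directImage f)).obj M))

/-- The square-zero extension as a quasi-coherent algebra. -/
def extAlg : RelSpec.QCAlg S where
  presheaf := extPre f M
  isSheaf := isSheaf_extPre f M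
  str := extStr f M
  isQC := isQC_extPre f M hM

/-- The inclusion of functions. -/
def inlNat : AffAlg.alg f ⟶ extPre f M where
  app U := CommRingCat.ofHom (TrivSqZeroExt.inlHom Γ(X, f ⁻¹ᵁ U.unop) (Sec f M U.unop))
  naturality U V i := by
    refine CommRingCat.hom_ext (RingHom.ext fun r => TrivSqZeroExt.ext ?_ ?_)
    · exact (fst_resE f M i.unop.le (TrivSqZeroExt.inl r)).symm
    · exact ((snd_resE f M i.unop.le (TrivSqZeroExt.inl r)).trans (map_zero _)).symm

/-- The projection to functions. -/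
def fstNat : extPre f M ⟶ AffAlg.alg f where
  app U := CommRingCat.ofHom (TrivSqZeroExt.fstHom Γ(X, f ⁻¹ᵁ U.unop) Γ(X, f ⁻¹ᵁ U.unop) (Sec f M U.unop)).toRingHom
  naturality U V i := CommRingCat.hom_ext (RingHom.ext fun x => fst_resE f M i.unop.le x)

lemma algHom_base {X' T : Scheme.{u}} (a : X' ⟶ S) (b : T ⟶ S) (r : T ⟶ X') (hr : r ≫ a = b) :
    AffAlg.algHom a b r hr = AffAlg.algHom a (r ≫ a) r rfl ≫ eqToHom (by rw [hr]) := by
  subst hr; simp

lemma algHom_base' {X' T : Scheme.{u}} (a b : X' ⟶ S) (hab : a = b) (c : T ⟶ S) (s : T ⟶ X') (hs : s ≫ b = c) :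
    eqToHom (by rw [hab]) ≫ AffAlg.algHom b c s hs = AffAlg.algHom a c s (by rw [hab, hs]) := by
  subst hab; simp

include hM in
theorem exists_data [IsAffineHom f] : ∃ (X' : Scheme.{u}) (r : X' ⟶ X) (_ : IsAffineHom r) (s : X ⟶ X')
    (hs : s ≫ r = 𝟙 X) (γ : AffAlg.alg (r ≫ f) ⟶ extPre f M),
    IsIso γ ∧ AffAlg.algHom f (r ≫ f) r rfl ≫ γ = inlNat f M ∧
      γ ≫ fstNat f M = AffAlg.algHom (r ≫ f) f s (by rw [← Category.assoc, hs, Category.id_comp]) := by
  let C := extAlg f M hM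
  obtain ⟨⟨s, hs⟩, hω⟩ := (RelSpecUP.toAlg_bijective C f).2 ⟨fstNat f M, by
    ext U a
    rfl⟩
  have hω' : inv C.gammaMap ≫ AffAlg.algHom C.π f s hs = fstNat f M := congrArg Subtype.val hω
  obtain ⟨⟨r, hr⟩, hr'⟩ := (S3569.result f C.π).2 ⟨inlNat f M ≫ inv C.gammaMap, by
    rw [← Category.assoc, IsIso.comp_inv_eq, C.π_c_gammaMap]
    ext U a
    rfl⟩
  have hr'' : AffAlg.algHom f C.π r hr = inlNat f M ≫ inv C.gammaMap := congrArg Subtype.val hr'
  have hsr : s ≫ r = 𝟙 X := by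
    have hw : (s ≫ r) ≫ f = f := by rw [Category.assoc, hr, hs]
    have e := (S3569.result f f).1 (a₁ := ⟨s ≫ r, hw⟩) (a₂ := ⟨𝟙 X, Category.id_comp f⟩) (Subtype.ext ?_)
    · exact congrArg Subtype.val e
    change AffAlg.algHom f f (s ≫ r) hw = AffAlg.algHom f f (𝟙 X) (Category.id_comp f)
    rw [RelSpecUP.algHom_comp f C.π f r hr s hs, hr'', Category.assoc, hω']
    ext U a
    rw [RelSpecUP.algHom_app]
    simp [inlNat, fstNat, Scheme.Hom.appLE]
    exact congr($(X.presheaf.map_id _) a).symm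
  haveI : IsAffineHom (r ≫ f) := by rw [hr]; infer_instance
  haveI : IsAffineHom r := MorphismProperty.of_postcomp (W := @IsAffineHom) (W' := @IsSeparated) r f inferInstance inferInstance
  let e0 : AffAlg.alg (r ≫ f) ⟶ AffAlg.alg C.π := eqToHom (by rw [hr])
  refine ⟨C.spec, r, inferInstance, s, hsr, e0 ≫ C.gammaMap, inferInstanceAs (IsIso (e0 ≫ C.gammaMap)), ?_, ?_⟩
  · rw [← Category.assoc]
    have h1 : AffAlg.algHom f (r ≫ f) r rfl ≫ e0 = AffAlg.algHom f C.π r hr := (algHom_base f C.π r hr).symm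
    rw [h1, hr'', Category.assoc, IsIso.inv_hom_id, Category.comp_id]
  · rw [Category.assoc, show C.gammaMap ≫ fstNat f M = AffAlg.algHom C.π f s hs by rw [← hω', IsIso.hom_inv_id_assoc]]
    exact algHom_base' (r ≫ f) C.π hr f s hs

include hM in
theorem exists_isQCoh_dirImg_iso [IsAffineHom f] :
    ∃ F : X.Modules, Coh.IsQCoh F ∧ Nonempty ((AMod.dirImg f).obj F ≅ M) := by
  obtain ⟨X', r, _, s, hs, γ, _, h1, h2⟩ := exists_data f M hM
  have hle : ∀ V : X.Opens, V ≤ s ⁻¹ᵁ (r ⁻¹ᵁ V) := fun V => by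
    rw [← Scheme.Hom.comp_preimage, hs]; exact le_rfl
  have hsr : ∀ (V : X.Opens) (a : Γ(X, V)), s.appLE (r ⁻¹ᵁ V) V (hle V) (r.app V a) = a := fun V a => by
    have key : ∀ (φ : X ⟶ X), φ = 𝟙 X → ∀ e : V ≤ φ ⁻¹ᵁ V, φ.appLE V V e a = a := by
      rintro _ rfl e; simp [Scheme.Hom.appLE]
      exact congr($(X.presheaf.map_id _) a)
    rw [← CommRingCat.comp_apply, Scheme.Hom.app_eq_appLE, Scheme.Hom.appLE_comp_appLE]
    exact key _ hs _
  let u : (Scheme.Modules.pushforward r).obj (Coh.structureModule X') ⟶ Coh.structureModule X :=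
    ⟨PresheafOfModules.homMk
      { app := fun V => AddCommGrpCat.ofHom (s.appLE (r ⁻¹ᵁ V.unop) V.unop (hle _)).hom.toAddMonoidHom
        naturality := fun V W i => by
          ext t
          change s.appLE _ _ _ (resO X' (r.preimage_mono i.unop.le) t) = resO X i.unop.le (s.appLE _ _ _ t)
          rw [resO, resO]
          change (X'.presheaf.map _ ≫ s.appLE _ _ _) t = (s.appLE _ _ _ ≫ X.presheaf.map _) t
          rw [Scheme.Hom.map_appLE, Scheme.Hom.appLE_map]
          rfl }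
      fun V a t => by
        change s.appLE _ _ _ (r.app V.unop a * (show Γ(X', r ⁻¹ᵁ V.unop) from t)) =
          (show Γ(X, V.unop) from a) * s.appLE _ _ _ (show Γ(X', r ⁻¹ᵁ V.unop) from t)
        rw [map_mul, hsr]⟩
  have hu : ∀ (V : X.Opens) (b : Γ(X', r ⁻¹ᵁ V)), u.app V b = s.appLE (r ⁻¹ᵁ V) V (hle V) b := fun V b => rfl
  haveI : (Coh.structureModule X').IsQuasicoherent := isQCoh_unit _
  refine ⟨kernel u, isQCoh_kernel (isQCoh_pushforward r) (isQCoh_unit X) u, ?_⟩
  have hfst : ∀ (U : S.Opens) (b : Γ(X', r ⁻¹ᵁ f ⁻¹ᵁ U)),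
      TrivSqZeroExt.fst (γ.app (op U) b : Ext f M U) = s.appLE (r ⁻¹ᵁ f ⁻¹ᵁ U) (f ⁻¹ᵁ U) (hle _) b := fun U b => by
    have := congr($(NatTrans.congr_app h2 (op U)) b)
    rw [RelSpecUP.algHom_app] at this
    exact this
  have hinl : ∀ (U : S.Opens) (a : Γ(X, f ⁻¹ᵁ U)),
      (γ.app (op U) (r.app (f ⁻¹ᵁ U) a) : Ext f M U) = TrivSqZeroExt.inl a := fun U a => by
    have := congr($(NatTrans.congr_app h1 (op U)) a)
    rw [NatTrans.comp_app, RelSpecUP.algHom_app] at this
    refine Eq.trans ?_ this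
    rw [CommRingCat.comp_apply]
    exact congrArg (γ.app (op U)) (congr($(Scheme.Hom.app_eq_appLE (f := r) (U := f ⁻¹ᵁ U)) a))
  let ι := kernel.ι u
  let ψ : ∀ U : S.Opens, Γ(kernel u, f ⁻¹ᵁ U) →+ Sec f M U := fun U =>
    AddMonoidHom.mk' (fun t => TrivSqZeroExt.snd (γ.app (op U) (ι.app (f ⁻¹ᵁ U) t) : Ext f M U))
      (fun a b => by rw [map_add, map_add]; exact TrivSqZeroExt.snd_add _ _)
  have hker : ∀ (U : S.Opens) (t : Γ(kernel u, f ⁻¹ᵁ U)),
      TrivSqZeroExt.fst (γ.app (op U) (ι.app (f ⁻¹ᵁ U) t) : Ext f M U) = 0 := fun U t => by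
    rw [hfst, ← hu]
    exact (mem_range_kernel_app u _ _).1 ⟨t, rfl⟩
  have hψs : ∀ (U : S.Opens) (a : Γ(X, f ⁻¹ᵁ U)) (t : Γ(kernel u, f ⁻¹ᵁ U)), ψ U (a • t) = a • ψ U t := fun U a t => by
    change TrivSqZeroExt.snd (γ.app (op U) (ι.app _ (a • t)) : Ext f M U) =
      a • TrivSqZeroExt.snd (γ.app (op U) (ι.app (f ⁻¹ᵁ U) t) : Ext f M U)
    rw [Scheme.Modules.Hom.app_smul]
    change TrivSqZeroExt.snd (γ.app (op U) (r.app (f ⁻¹ᵁ U) a * (show Γ(X', r ⁻¹ᵁ f ⁻¹ᵁ U) from ι.app (f ⁻¹ᵁ U) t)) : Ext f M U) = _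
    rw [map_mul]
    change TrivSqZeroExt.snd ((γ.app (op U) (r.app (f ⁻¹ᵁ U) a) : Ext f M U) * _) = _
    rw [hinl, TrivSqZeroExt.snd_mul, TrivSqZeroExt.fst_inl, TrivSqZeroExt.snd_inl]
    simp
  have hγ : ∀ U : S.Opens, Function.Bijective (γ.app (op U)) := fun U =>
    ConcreteCategory.bijective_of_isIso (γ.app (op U))
  have hψb : ∀ U : S.Opens, Function.Bijective (ψ U) := fun U => by
    refine ⟨fun a b e => ?_, fun m => ?_⟩
    · exact app_injective_of_mono ι _ ((hγ U).1 (TrivSqZeroExt.ext ((hker U a).trans (hker U b).symm) e))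
    · obtain ⟨b, hb⟩ := (hγ U).2 (TrivSqZeroExt.inr m : Ext f M U)
      obtain ⟨t, ht⟩ := (mem_range_kernel_app u (f ⁻¹ᵁ U) b).2 (by
        rw [hu, ← hfst, hb]; exact TrivSqZeroExt.fst_inr _ m)
      refine ⟨t, ?_⟩
      change TrivSqZeroExt.snd (γ.app (op U) (ι.app _ t) : Ext f M U) = m
      rw [ht, hb]; exact TrivSqZeroExt.snd_inr _ m
  let e : ((AMod.dirImg f).obj (kernel u)).val ≅ M.val :=
    PresheafOfModules.isoMk (fun U => (LinearEquiv.toModuleIso
      (LinearEquiv.ofBijective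
        ({ toFun := ψ U.unop, map_add' := map_add _, map_smul' := hψs U.unop } :
          ((AMod.dirImg f).obj (kernel u)).val.obj U →ₗ[_] M.val.obj U) (hψb U.unop))))
      (fun U V i => by
        ext t
        change ψ V.unop (res (kernel u) (f.preimage_mono i.unop.le) t) = rs f M i.unop.le (ψ U.unop t)
        change TrivSqZeroExt.snd (γ.app (op V.unop) (show Γ(X', r ⁻¹ᵁ f ⁻¹ᵁ V.unop) from
          ι.app _ (res (kernel u) (f.preimage_mono i.unop.le) t)) : Ext f M V.unop) = _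
        rw [← app_res]
        refine Eq.trans ?_ (snd_resE f M i.unop.le _)
        exact congrArg TrivSqZeroExt.snd (congr($(γ.naturality i) (show Γ(X', r ⁻¹ᵁ f ⁻¹ᵁ U.unop) from ι.app _ t))))
  exact ⟨(SheafOfModules.fullyFaithfulForget _).preimageIso e⟩

end Groth.Agent.DirImgExt
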