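import Groth.Agent.QC.Closure
import Groth.Agent.QC.Localisation
import Groth.Agent.QC.FiniteType
import Groth.Agent.QCAlg.Basic
import Groth.Prelude.Def_RelSpec2
import Mathlib.AlgebraicGeometry.Morphisms.Affine
import Mathlib.CategoryTheory.Sites.EpiMono

/-!
Finite type of a quasi-coherent module on `X` and of its direct image over `f_* O_X`, `f` affine.
-/

universe u

open CategoryTheory CategoryTheory.Limits AlgebraicGeometry TopologicalSpace Opposite
open Groth.Agent.QC

set_option backward.isDefEq.respectTransparency false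
set_option linter.style.haveILetI false

noncomputable section

namespace Groth.Agent.DirImgLib

variable {X S : Scheme.{u}} (f : X ⟶ S) [IsAffineHom f]

/-- The direct image algebra as a sheaf of commutative rings. -/
abbrev algSheaf : Sheaf (Opens.grothendieckTopology S) CommRingCat.{u} :=
  ⟨(RelSpec.QCAlg.directImage f).presheaf, (RelSpec.QCAlg.directImage f).isSheaf⟩

/-- Its structure map. -/
abbrev algStr : S.sheaf ⟶ algSheaf f := ⟨(RelSpec.QCAlg.directImage f).str⟩

/-- Predicate used to clear denominators. -/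
def Frac {W : X.Opens} (F : X.Modules) (N : Submodule Γ(X, W) Γ(F, W)) (g : Γ(X, W))
    (z : Γ(F, X.basicOpen g)) : Prop :=
  ∃ (n : ℕ) (a : Γ(F, W)), a ∈ N ∧ resO X (X.basicOpen_le g) g ^ n • z = res F (X.basicOpen_le g) a

lemma frac_of_mem_span {W : X.Opens} (hW : IsAffineOpen W) (F : X.Modules) {I : Type u}
    (m : I → Γ(F, W)) (g : Γ(X, W)) {z : Γ(F, X.basicOpen g)}
    (hz : z ∈ Submodule.span Γ(X, X.basicOpen g) (Set.range fun k => res F (X.basicOpen_le g) (m k))) :
    Frac F (Submodule.span Γ(X, W) (Set.range m)) g z := by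
  haveI := hW.isLocalization_basicOpen g
  induction hz using Submodule.span_induction with
  | zero => exact ⟨0, 0, Submodule.zero_mem _, by rw [smul_zero, map_zero]⟩
  | mem x hx =>
    obtain ⟨k, rfl⟩ := hx
    exact ⟨0, m k, Submodule.subset_span ⟨k, rfl⟩, by rw [pow_zero, one_smul]⟩
  | add x y _ _ hx hy =>
    obtain ⟨n₁, a₁, ha₁, h₁⟩ := hx
    obtain ⟨n₂, a₂, ha₂, h₂⟩ := hy
    refine ⟨n₁ + n₂, g ^ n₂ • a₁ + g ^ n₁ • a₂,
      Submodule.add_mem _ (Submodule.smul_mem _ _ ha₁) (Submodule.smul_mem _ _ ha₂), ?_⟩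
    rw [smul_add, map_add, res_smul, res_smul, map_pow, map_pow, ← h₁, ← h₂, smul_smul, smul_smul,
      ← pow_add, ← pow_add, add_comm n₂ n₁]
  | smul c x _ hx =>
    obtain ⟨n, a, ha, h⟩ := hx
    obtain ⟨⟨b, _, m', rfl⟩, hb⟩ := IsLocalization.surj (Submonoid.powers g) c
    have hb' : c * resO X (X.basicOpen_le g) g ^ m' = resO X (X.basicOpen_le g) b := by
      rw [← map_pow]; exact hb
    refine ⟨m' + n, b • a, Submodule.smul_mem _ _ ha, ?_⟩
    rw [res_smul, ← hb', ← h, smul_smul, smul_smul]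
    congr 1
    ring

lemma mem_span_image {A B M N I : Type u} [Semiring A] [Semiring B] [AddCommGroup M] [AddCommGroup N]
    [Module A M] [Module B N] {ρ : A →+* B} (L : M →+ N) (hL : ∀ c z, L (c • z) = ρ c • L z)
    {e : I → M} {z : M} (hz : z ∈ Submodule.span A (Set.range e)) {v : I → N}
    (h : ∀ k, L (e k) = v k) : L z ∈ Submodule.span B (Set.range v) := by
  induction hz using Submodule.span_induction with
  | zero => rw [map_zero]; exact Submodule.zero_mem _
  | mem x hx => obtain ⟨k, rfl⟩ := hx; rw [h k]; exact Submodule.subset_span ⟨k, rfl⟩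
  | add x y _ _ hx hy => rw [map_add]; exact Submodule.add_mem _ hx hy
  | smul c x _ hx => rw [hL]; exact Submodule.smul_mem _ _ hx

lemma toX_mem_span (F : X.Modules) {U W : S.Opens} (h : W ≤ U) {I : Type u}
    (e : I → QCAlg.sec (R := QCAlg.alg (algSheaf f))
      (SheafOfModules.over.{u} ((AMod.dirImg f).obj F) U) h)
    {z : QCAlg.sec (R := QCAlg.alg (algSheaf f))
      (SheafOfModules.over.{u} ((AMod.dirImg f).obj F) U) h}
    (hz : z ∈ Submodule.span (QCAlg.scal (R := QCAlg.alg (algSheaf f)) h) (Set.range e)) :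
    (z : Γ(F, f ⁻¹ᵁ W)) ∈ Submodule.span Γ(X, f ⁻¹ᵁ W)
      (Set.range fun k => (e k : Γ(F, f ⁻¹ᵁ W))) := hz

lemma exists_locally_of_epi {T : TopCat.{u}} {R : Sheaf (Opens.grothendieckTopology T) RingCat.{u}}
    {U : Opens T} {N N' : SheafOfModules.{u} (R.over U)} (p : N ⟶ N') [Epi p] {V : Opens T}
    (h : V ≤ U) (t : QCAlg.sec N' h) (x : T) (hx : x ∈ V) :
    ∃ (W : Opens T) (hWV : W ≤ V) (s : QCAlg.sec N (hWV.trans h)),
      x ∈ W ∧ QCAlg.mapSec p (hWV.trans h) s = QCAlg.rs N' hWV h t := by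
  haveI : Sheaf.IsLocallySurjective ((SheafOfModules.toSheaf _).map p) :=
    (Sheaf.isLocallySurjective_iff_epi' AddCommGrpCat.{u} _).mpr inferInstance
  have hs := Presheaf.imageSieve_mem ((Opens.grothendieckTopology T).over U)
    ((SheafOfModules.toSheaf _).map p).hom (U := op (QCAlg.ov h)) t
  rw [GrothendieckTopology.mem_over_iff] at hs
  obtain ⟨W, l, hl, hyW⟩ := hs x hx
  rw [Sieve.overEquiv_iff] at hl
  obtain ⟨s, hst⟩ := hl
  exact ⟨W, leOfHom l, s, hyW, hst⟩

lemma mapSec_π_mem_span {T : TopCat.{u}} {R : Sheaf (Opens.grothendieckTopology T) RingCat.{u}}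
    {U : Opens T} {N : SheafOfModules.{u} (R.over U)} (σ : N.GeneratingSections) [Finite σ.I]
    {V : Opens T} (h : V ≤ U) (s : QCAlg.sec (SheafOfModules.free (R := R.over U) σ.I) h) :
    QCAlg.mapSec σ.π h s ∈ Submodule.span (QCAlg.scal (R := R) h)
      (Set.range (α := QCAlg.sec N h) fun k => (σ.s k).val (op (QCAlg.ov h))) := by
  have hs := (QCAlg.span_freeBasis (R := R) (I := σ.I) h).ge (Submodule.mem_top (x := s))
  refine mem_span_image (ρ := RingHom.id _) (QCAlg.mapSec σ.π h).toAddMonoidHom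
    (fun c z => (QCAlg.mapSec σ.π h).map_smul c z) hs (fun k => ?_)
  exact congrArg (fun s' : N.sections => s'.val (op (QCAlg.ov h)))
    (SheafOfModules.sectionsMap_freeHomEquiv_symm_freeSection σ.s k)

lemma rs_eq (F : X.Modules) {U V W : S.Opens} (hWV : W ≤ V) (h : V ≤ U) (t : Γ(F, f ⁻¹ᵁ V)) :
    QCAlg.rs (R := QCAlg.alg (algSheaf f)) (SheafOfModules.over.{u} ((AMod.dirImg f).obj F) U)
      hWV h t = res F (f.preimage_mono hWV) t := rfl

/-- Finite type over the algebra gives finite type. -/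
theorem isFT_of_isFT_dirImg {F : X.Modules} (hF : Coh.IsQCoh F)
    (hFT : SheafOfModules.IsFiniteType.{u} (R := AMod.ringSheaf (RelSpec.QCAlg.directImage f))
      ((AMod.dirImg f).obj F)) : CohB1.IsFT F := by
  classical
  haveI : F.IsQuasicoherent := hF
  obtain ⟨q, hq⟩ := hFT.exists_localGeneratorsData
  refine isFT_iff_exists_hasFinGen.mpr fun x => ?_
  obtain ⟨i, hi⟩ := exists_of_coversTop q.coversTop (f x)
  obtain ⟨V, hV, hxV, hle₀⟩ := exists_isAffineOpen_mem_and_subset (U := q.X i) (x := f x) hi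
  have hle : V ≤ q.X i := hle₀
  haveI hfin : Finite (q.generators i).I := (hq.isFiniteType i).finite
  let N : SheafOfModules.{u} ((QCAlg.alg (algSheaf f)).over (q.X i)) :=
    SheafOfModules.over.{u} ((AMod.dirImg f).obj F) (q.X i)
  let σ : N.GeneratingSections := q.generators i
  let val : ∀ {W : S.Opens} (h : W ≤ q.X i), σ.I → Γ(F, f ⁻¹ᵁ W) := fun h k =>
    (σ.s k).val (op (QCAlg.ov h))
  have hval : ∀ {W W' : S.Opens} (h' : W' ≤ W) (h : W ≤ q.X i) (k : σ.I),
      res F (f.preimage_mono h') (val h k) = val (h'.trans h) k := fun {W W'} h' h k =>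
    (σ.s k).property (Over.homMk (homOfLE h') (Subsingleton.elim _ _) :
      QCAlg.ov (h'.trans h) ⟶ QCAlg.ov h).op
  refine ⟨f ⁻¹ᵁ V, hxV, hasFinGen_of_finite (hV.preimage f) (h := ?_)⟩
  haveI := Fintype.ofFinite σ.I
  refine ⟨⟨Finset.univ.image (val hle), ?_⟩⟩
  rw [Finset.coe_image, Finset.coe_univ, Set.image_univ, eq_top_iff]
  intro t _
  let M := Submodule.span Γ(X, f ⁻¹ᵁ V) (Set.range (val hle))
  let Ia : Ideal Γ(S, V) :=
      { carrier := {a | f.app V a • t ∈ M}
        zero_mem' := by simp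
        add_mem' := fun {a b} ha hb => by
          change f.app V (a + b) • t ∈ M
          rw [map_add, add_smul]; exact add_mem ha hb
        smul_mem' := fun c a ha => by
          change f.app V (c * a) • t ∈ M
          rw [map_mul, mul_smul]; exact M.smul_mem _ ha }
  suffices h : Ia = ⊤ by
    have h1 : (1 : Γ(S, V)) ∈ Ia := by rw [h]; trivial
    have h2 : f.app V 1 • t ∈ M := h1
    rwa [map_one, one_smul] at h2
  rw [← Ideal.radical_eq_top, ← Ideal.span_eq Ia.radical, ← hV.self_le_iSup_basicOpen_iff]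
  intro y hy
  haveI := σ.epi
  obtain ⟨W, hWV, s, hyW, hst⟩ := exists_locally_of_epi σ.π hle
    (t : QCAlg.sec N hle) y hy
  obtain ⟨b, hbW, hyb⟩ := hV.exists_basicOpen_le ⟨y, hyW⟩ hy
  refine Opens.mem_iSup.mpr ⟨⟨b, ?_⟩, hyb⟩
  let g := f.app V b
  have hD : X.basicOpen g ≤ f ⁻¹ᵁ W := (Scheme.preimage_basicOpen f b).ge.trans (f.preimage_mono hbW)
  have hsN := mapSec_π_mem_span σ (hWV.trans hle) s
  have hsX : (res F (f.preimage_mono hWV) t) ∈ Submodule.span Γ(X, f ⁻¹ᵁ W)
      (Set.range fun k : σ.I => val (hWV.trans hle) k) := by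
    rw [hst] at hsN
    rw [← rs_eq f F hWV hle t]
    exact toX_mem_span f F (hWV.trans hle) _ hsN
  have hsp : (res F (X.basicOpen_le g) t : Γ(F, X.basicOpen g)) ∈ Submodule.span Γ(X, X.basicOpen g)
      (Set.range fun k => res F (X.basicOpen_le g) (val hle k)) := by
    have := mem_span_image (ρ := resO X hD) (res F hD) (fun c z => res_smul F hD c z) hsX
      (v := fun k => res F (X.basicOpen_le g) (val hle k)) (fun k => by rw [← hval hWV hle k, res_res])
    rwa [res_res] at this
  obtain ⟨n, a, ha, hna⟩ := frac_of_mem_span (hV.preimage f) F (val hle) g hsp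
  obtain ⟨n', hn'⟩ := (isLoc_of_isQCoh (hV.preimage f) (hM := hF)).exists_pow_smul_eq_zero g
    (g ^ n • t - a) (by rw [map_sub, res_smul, map_pow, hna, sub_self])
  refine ⟨n' + n, ?_⟩
  change f.app V (b ^ (n' + n)) • t ∈ M
  rw [map_pow, pow_add, mul_smul]
  rw [smul_sub, sub_eq_zero] at hn'
  rw [hn']
  exact M.smul_mem _ ha

/-- Finite type gives finite type over the algebra. -/
theorem isFT_dirImg {F : X.Modules} (hF : Coh.IsQCoh F) (hFT : CohB1.IsFT F) :
    SheafOfModules.IsFiniteType.{u} (R := AMod.ringSheaf (RelSpec.QCAlg.directImage f))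
      ((AMod.dirImg f).obj F) := by
  classical
  haveI : F.IsQuasicoherent := hF
  choose U hU hx using exists_affine_mem (X := S)
  have hfin : ∀ x, Module.Finite Γ(X, f ⁻¹ᵁ U x) Γ(F, f ⁻¹ᵁ U x) := fun x =>
    finite_sections ((hU x).preimage f) hFT
  choose T hT using fun x => (hfin x).fg_top
  have hloc : ∀ x, QCAlg.LocOn (algSheaf f) (algStr f) (U x)
      (SheafOfModules.over.{u} ((AMod.dirImg f).obj F) (U x)) := fun x =>
    QCAlg.locOn_over (algSheaf f) (algStr f) (U x) (hU x) ((AMod.dirImg f).obj F)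
      (isQCoh_pushforward f (hM := hF))
  let d : SheafOfModules.LocalGeneratorsData.{u}
      (R := AMod.ringSheaf (RelSpec.QCAlg.directImage f)) ((AMod.dirImg f).obj F) :=
    { I := S
      X := U
      coversTop := coversTop_of_forall (X := S) (W := U) fun x => ⟨x, hx x⟩
      generators := fun x => QCAlg.genOfSpan (algSheaf f) (algStr f) (hU x) (hloc x)
        (fun s : T x => (s.1 : Γ(F, f ⁻¹ᵁ U x))) (by
          change Submodule.span Γ(X, f ⁻¹ᵁ U x) (Set.range fun s : T x => s.1) = ⊤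
          rw [Subtype.range_coe_subtype]
          exact hT x) }
  have hd : d.IsFiniteType := { isFiniteType := fun x => ⟨show Finite (T x) from inferInstance⟩ }
  exact { exists_localGeneratorsData := ⟨d, hd⟩ }

end Groth.Agent.DirImgLib
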